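import Cfsg.Agent.Lib.Suzuki2.ClassTwo.Monomial

/-!
# Linearised polynomials indexed by `ZMod n` and the classification of the Suzuki forms

If additive bijections `A`, `B` of `F = GF(2^(2m+1))` satisfy `B (a^θ a) = (A a)^θ (A a)` then
`A` is a monomial.
-/

set_option autoImplicit false
set_option linter.unusedSectionVars false

namespace Cfsg.Agent.Lib.SuzukiAutSylow

open Cfsg.Agent.Lib.Suzuki2.ClassTwo

variable {F : Type*} [Field F] [Fintype F] [CharP F 2] {n : ℕ} [NeZero n]

/-- The Frobenius power with exponent in `ZMod n`. -/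
def P (j : ZMod n) (x : F) : F := x ^ 2 ^ j.val

theorem P_mul (j : ZMod n) (x y : F) : P j (x * y) = P j x * P j y := mul_pow _ _ _

theorem P_add' (j : ZMod n) (x y : F) : P j (x + y) = P j x + P j y := add_pow_char_pow x y 2 _

theorem P_sum {ι : Type*} (j : ZMod n) (s : Finset ι) (f : ι → F) :
    P j (∑ i ∈ s, f i) = ∑ i ∈ s, P j (f i) :=
  sum_pow_char_pow 2 _ s f

theorem P_one (j : ZMod n) : P j (1 : F) = 1 := one_pow _

theorem P_eq_zero {j : ZMod n} {x : F} : P j x = 0 ↔ x = 0 :=
  pow_eq_zero_iff (pow_ne_zero _ two_ne_zero)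

theorem pow_eq_P (hF : Fintype.card F = 2 ^ n) (k : ℕ) (x : F) :
    x ^ 2 ^ k = P (k : ZMod n) x := by
  have h1 : ∀ t : ℕ, x ^ 2 ^ (n * t) = x := by
    intro t
    induction t with
    | zero => simp
    | succ t ih => rw [Nat.mul_succ, pow_add, pow_mul, ih, ← hF, FiniteField.pow_card]
  rw [P, ZMod.val_natCast]
  conv_lhs => rw [← Nat.div_add_mod k n, pow_add, pow_mul, h1]

theorem P_comp (hF : Fintype.card F = 2 ^ n) (i j : ZMod n) (x : F) :
    P i (P j x) = P (i + j) x := by
  have h := pow_eq_P hF (j.val + i.val) x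
  rw [Nat.cast_add, ZMod.natCast_zmod_val, ZMod.natCast_zmod_val, add_comm j i] at h
  rw [← h, pow_add, pow_mul]
  rfl

theorem P_sq (hF : Fintype.card F = 2 ^ n) (j : ZMod n) (x : F) : P j x * P j x = P (1 + j) x := by
  rw [← P_comp hF]
  have h := pow_eq_P hF 1 (P j x)
  rw [Nat.cast_one] at h
  rw [← h]; ring

/-- Coefficient comparison. -/
theorem coeff_zero (hF : Fintype.card F = 2 ^ n) {c : ZMod n → F}
    (h : ∀ x, ∑ j, c j * P j x = 0) : c = 0 := by
  have hb : Function.Bijective (fun i : Fin n => ((i : ℕ) : ZMod n)) := by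
    refine (Fintype.bijective_iff_injective_and_card _).2 ⟨fun i j hij => ?_, by simp⟩
    have := congrArg ZMod.val hij
    simp only [ZMod.val_natCast, Nat.mod_eq_of_lt i.2, Nat.mod_eq_of_lt j.2] at this
    exact Fin.ext this
  have h0 := ev_injective hF (c := fun i : Fin n => c ((i : ℕ) : ZMod n)) fun z => by
    rw [← h z, ev]
    exact Fintype.sum_bijective _ hb _ _ fun i => by rw [pow_eq_P hF]
  funext j
  have := congrFun h0 ⟨j.val, ZMod.val_lt j⟩
  simpa using this

theorem exists_coeff (hF : Fintype.card F = 2 ^ n) (f : F → F)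
    (hf : ∀ z w, f (z + w) = f z + f w) : ∃ c : ZMod n → F, ∀ x, ∑ j, c j * P j x = f x := by
  obtain ⟨c, hc⟩ := ev_surjective hF f hf
  have hb : Function.Bijective (fun j : ZMod n => (⟨j.val, ZMod.val_lt j⟩ : Fin n)) := by
    refine (Fintype.bijective_iff_injective_and_card _).2 ⟨fun i j hij => ?_, by simp⟩
    exact ZMod.val_injective n (congrArg Fin.val hij)
  refine ⟨fun j => c ⟨j.val, ZMod.val_lt j⟩, fun x => ?_⟩
  rw [← hc x, ev]
  exact Fintype.sum_bijective _ hb _ _ fun j => rfl

/-- Bilinear coefficient comparison. -/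
theorem coeff_zero₂ (hF : Fintype.card F = 2 ^ n) {C : ZMod n → ZMod n → F}
    (h : ∀ x y, ∑ j, ∑ k, C j k * (P j x * P k y) = 0) : C = 0 := by
  funext j k
  have h1 : ∀ y, (fun j => ∑ k, C j k * P k y) = 0 := fun y => coeff_zero hF fun x => by
    rw [← h x y]
    refine Finset.sum_congr rfl fun j _ => ?_
    rw [Finset.sum_mul]
    exact Finset.sum_congr rfl fun k _ => by ring
  exact congrFun (coeff_zero hF fun y => congrFun (h1 y) j) k

/-- A symmetric quadratic expression in characteristic two is the sum over its diagonal. -/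
theorem sum_symm {ι : Type*} [Fintype ι] (f : ι → ι → F) (hf : ∀ j k, f j k = f k j) :
    ∑ j, ∑ k, f j k = ∑ j, f j j := by
  classical
  rw [← Fintype.sum_prod_type', ← Finset.sum_filter_add_sum_filter_not Finset.univ (fun p : ι × ι => p.1 = p.2)]
  have h2 : ∑ p ∈ Finset.univ.filter (fun p : ι × ι => ¬p.1 = p.2), f p.1 p.2 = 0 := by
    refine Finset.sum_involution (fun p _ => p.swap) (fun p _ => ?_) (fun p hp _ => ?_)
      (fun p hp => ?_) (fun p _ => p.swap_swap)
    · rw [hf p.1 p.2]; exact CharTwo.add_self_eq_zero _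
    · intro he
      exact (Finset.mem_filter.1 hp).2 (congrArg Prod.snd he)
    · have := (Finset.mem_filter.1 hp).2
      simp [Ne.symm this]
  rw [h2, add_zero]
  refine Finset.sum_bij' (fun p _ => p.1) (fun j _ => (j, j)) ?_ ?_ ?_ ?_ ?_ <;> simp +contextual

section Classify

variable (hF : Fintype.card F = 2 ^ n) (hn : 3 ≤ n) (e : ZMod n) (he : e + e = 1)
include hF hn he

theorem one_ne : (1 : ZMod n) ≠ 0 ∧ (2 : ZMod n) ≠ 0 := by
  have h1 : ((1 : ℕ) : ZMod n) ≠ 0 := fun h => by
    rw [ZMod.natCast_eq_zero_iff] at h; exact absurd (Nat.le_of_dvd one_pos h) (by omega)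
  have h2 : ((2 : ℕ) : ZMod n) ≠ 0 := fun h => by
    rw [ZMod.natCast_eq_zero_iff] at h; exact absurd (Nat.le_of_dvd two_pos h) (by omega)
  exact ⟨by simpa using h1, by simpa using h2⟩

/-- The classification. -/
theorem monomial (A B : F → F) (hA : ∀ x y, A (x + y) = A x + A y) (hinj : Function.Injective A)
    (hB : ∀ x y, B (x + y) = B x + B y) (hq : ∀ x, B (P e x * x) = P e (A x) * A x) :
    ∃ (l : F) (i : ZMod n), l ≠ 0 ∧ ∀ x, A x = l * P i x := by
  classical
  obtain ⟨α, hα⟩ := exists_coeff hF A hA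
  obtain ⟨β, hβ⟩ := exists_coeff hF B hB
  let C : ZMod n → ZMod n → F := fun j k =>
    P e (α (j - e)) * α k + if j = k + e then β k else 0
  have hne := one_ne hF hn e he
  have e0 : e ≠ 0 := fun h => hne.1 (by rw [← he, h, add_zero])
  have hC : ∀ x y, P e (A x) * A y + B (P e x * y) = ∑ j, ∑ k, C j k * (P j x * P k y) := by
    intro x y
    have r1 : P e (A x) * A y = ∑ j, ∑ k, P e (α (j - e)) * α k * (P j x * P k y) := by
      rw [← hα x, ← hα y, P_sum, Finset.sum_mul_sum]
      refine Fintype.sum_equiv (Equiv.addRight e) _ _ fun i => Finset.sum_congr rfl fun k _ => ?_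
      rw [Equiv.coe_addRight, add_sub_cancel_right, P_mul, P_comp hF, add_comm e i]
      ring
    have r2 : B (P e x * y) = ∑ j, ∑ k, (if j = k + e then β k else 0) * (P j x * P k y) := by
      rw [← hβ, Finset.sum_comm]
      refine Finset.sum_congr rfl fun k _ => ?_
      rw [Finset.sum_eq_single (k + e)]
      · rw [if_pos rfl, P_mul, P_comp hF]
      · intro j _ hj; rw [if_neg hj, zero_mul]
      · simp
    rw [r1, r2, ← Finset.sum_add_distrib]
    refine Finset.sum_congr rfl fun j _ => ?_
    rw [← Finset.sum_add_distrib]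
    exact Finset.sum_congr rfl fun k _ => by simp only [C]; ring
  have hQ : ∀ x, P e (A x) * A x + B (P e x * x) = 0 := fun x => by
    rw [hq, CharTwo.add_self_eq_zero]
  have hsym : ∀ j k, C j k = C k j := by
    have := coeff_zero₂ hF (C := fun j k => C j k + C k j) fun x y => by
      have hpol : (P e (A x) * A y + B (P e x * y)) + (P e (A y) * A x + B (P e y * x)) = 0 := by
        have h1 := hQ (x + y)
        have hexp : P e (x + y) * (x + y) = P e x * x + (P e x * y + (P e y * x + P e y * y)) := by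
          rw [P_add']; ring
        rw [hexp, hB, hB, hB, hA, P_add'] at h1
        linear_combination h1 - hQ x - hQ y
      rw [hC x y, hC y x, Finset.sum_comm (f := fun j k => C j k * (P j y * P k x)),
        ← Finset.sum_add_distrib] at hpol
      rw [← hpol]
      refine Finset.sum_congr rfl fun j _ => ?_
      rw [← Finset.sum_add_distrib]
      exact Finset.sum_congr rfl fun k _ => by ring
    intro j k
    exact CharTwo.add_eq_zero.1 (congrFun (congrFun this j) k)
  have hdiag : ∀ j, C j j = 0 := by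
    have := coeff_zero hF (c := fun j => C (j - 1) (j - 1)) fun x => by
      have h1 := (hC x x).symm.trans (hQ x)
      rw [sum_symm _ fun j k => by rw [hsym j k, mul_comm (P j x)]] at h1
      rw [← h1]
      refine (Fintype.sum_equiv (Equiv.addLeft 1) _ _ fun j => ?_).symm
      rw [Equiv.coe_addLeft, P_sq hF, add_sub_cancel_left]
    intro j
    simpa using congrFun this (1 + j)
  have hd' : ∀ i, α i ≠ 0 → α (i + e) = 0 := by
    intro i hi
    have := hdiag (i + e)
    simp only [C, add_sub_cancel_right] at this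
    rw [if_neg (by simp [e0]), add_zero, mul_eq_zero, P_eq_zero] at this
    exact this.resolve_left hi
  have key : ∀ i l, α i ≠ 0 → α l ≠ 0 → i ≠ l → l = i + 1 := by
    intro i l hi hl hil
    by_contra hl1
    have h1 : i + e ≠ l := fun h => hl (h ▸ hd' i hi)
    have h2 : l ≠ i + e + e := by rwa [add_assoc, he]
    have h3 := hsym (i + e) l
    simp only [C, add_sub_cancel_right, if_neg h2, add_zero, hd' i hi, mul_zero] at h3
    rw [if_neg (fun h => hil (add_right_cancel h))] at h3
    simp only [add_zero, mul_eq_zero, P_eq_zero] at h3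
    exact h3.elim hi hl
  obtain ⟨i, hi⟩ : ∃ i, α i ≠ 0 := by
    by_contra! hall
    refine one_ne_zero (hinj (a₁ := (1 : F)) (a₂ := 0) ?_)
    rw [← hα 1, ← hα 0]; simp [hall]
  refine ⟨α i, i, hi, fun x => ?_⟩
  rw [← hα x, Finset.sum_eq_single i]
  · intro l _ hli
    have : α l = 0 := by
      by_contra hl
      have h1 := key i l hi hl (Ne.symm hli)
      have h2 := key l i hl hi hli
      exact hne.2 (by linear_combination (-1 : ZMod n) * h1 + (-1 : ZMod n) * h2)
    rw [this, zero_mul]
  · simp

end Classify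

end Cfsg.Agent.Lib.SuzukiAutSylow
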