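import Cfsg.Agent.Lib.SuzukiAutSylow.Coeff
import Cfsg.Prelude.Def_Transfer
import Cfsg.Prelude.Def_Solvable

/-!
# Automorphism group of the Sylow 2-subgroup of a Suzuki group
-/

set_option autoImplicit false
set_option linter.unusedSectionVars false

namespace Cfsg.Agent.Lib.SuzukiAutSylow

variable {F : Type*} [Field F] [Fintype F] [CharP F 2] {n : ℕ} [NeZero n]
variable {S : Type*} [Group S] [Finite S]

theorem P_zero (x : F) : P (0 : ZMod n) x = x := by simp [P]

theorem P_injective (hF : Fintype.card F = 2 ^ n) (i : ZMod n) : Function.Injective (P (F := F) i) :=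
  Function.LeftInverse.injective (g := P (-i)) fun x => by
    rw [P_comp hF, neg_add_cancel, P_zero]

/-- Coordinates of type A on `S`. -/
structure Model (S : Type*) [Group S] (F : Type*) [Field F] {n : ℕ} (e : ZMod n) where
  u : F → F → S
  bij : Function.Bijective (fun p : F × F => u p.1 p.2)
  mul : ∀ a b c d, u a b * u c d = u (a + c) (b + d + P e a * c)

namespace Model

variable {e : ZMod n} (M : Model S F e)

theorem inj {a b c d : F} (h : M.u a b = M.u c d) : a = c ∧ b = d :=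
  Prod.ext_iff.1 (M.bij.1 (a₁ := (a, b)) (a₂ := (c, d)) h)

noncomputable def coord : S ≃ F × F := (Equiv.ofBijective _ M.bij).symm

theorem coord_u (a b : F) : M.coord (M.u a b) = (a, b) :=
  (Equiv.ofBijective _ M.bij).symm_apply_apply (a, b)

theorem u_coord (x : S) : M.u (M.coord x).1 (M.coord x).2 = x :=
  (Equiv.ofBijective _ M.bij).apply_symm_apply x

noncomputable def cA (φ : MulAut S) (a : F) : F := (M.coord (φ (M.u a 0))).1
noncomputable def cM (φ : MulAut S) (a : F) : F := (M.coord (φ (M.u a 0))).2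
noncomputable def cB (φ : MulAut S) (b : F) : F := (M.coord (φ (M.u 0 b))).2

theorem P0 (j : ZMod n) : P j (0 : F) = 0 := P_eq_zero.2 rfl

theorem split (a b : F) : M.u a 0 * M.u 0 b = M.u a b := by simp [M.mul]

section Props

variable (hs : ∀ c : F, ∃ a, P e a * a = c)
include hs

theorem app_zero (φ : MulAut S) (b : F) : φ (M.u 0 b) = M.u 0 (M.cB φ b) := by
  obtain ⟨a, ha⟩ := hs b
  have h1 : M.u 0 b = M.u a 0 * M.u a 0 := by
    rw [M.mul, ha, CharTwo.add_self_eq_zero]; simp
  have h2 : φ (M.u 0 b) = M.u 0 (M.cM φ a + M.cM φ a + P e (M.cA φ a) * M.cA φ a) := by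
    rw [h1, map_mul]
    conv_lhs => rw [← M.u_coord (φ (M.u a 0)), M.mul, CharTwo.add_self_eq_zero]
    rfl
  rw [h2]
  congr 1
  rw [cB, h2, M.coord_u]

theorem app (φ : MulAut S) (a b : F) : φ (M.u a b) = M.u (M.cA φ a) (M.cM φ a + M.cB φ b) := by
  rw [← M.split a b, map_mul, M.app_zero hs]
  conv_lhs => rw [← M.u_coord (φ (M.u a 0)), M.mul]
  simp [cA, cM]

theorem cB_add (φ : MulAut S) (b d : F) : M.cB φ (b + d) = M.cB φ b + M.cB φ d := by
  have h := map_mul φ (M.u 0 b) (M.u 0 d)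
  rw [M.mul] at h
  simp only [P0, zero_mul, add_zero, zero_add, M.app_zero hs, M.mul, mul_zero] at h
  exact (M.inj h).2

theorem rel (φ : MulAut S) (a c : F) : M.cA φ (a + c) = M.cA φ a + M.cA φ c ∧
    M.cM φ (a + c) + M.cB φ (P e a * c) = M.cM φ a + M.cM φ c + P e (M.cA φ a) * M.cA φ c := by
  have h := map_mul φ (M.u a 0) (M.u c 0)
  rw [M.mul, zero_add, zero_add, M.app hs, M.app hs φ a, M.app hs φ c, M.mul] at h
  obtain ⟨h1, h2⟩ := M.inj h
  have hB0 : M.cB φ 0 = 0 := by
    have := M.cB_add hs φ 0 0; simpa using this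
  simp only [hB0, add_zero] at h2
  exact ⟨h1, h2⟩

theorem quad (φ : MulAut S) (a : F) :
    M.cB φ (P e a * a) = P e (M.cA φ a) * M.cA φ a := by
  have h0 : M.cM φ 0 = 0 := by
    have := M.app hs φ 0 0
    have h1 : M.u 0 0 = 1 := by
      have := M.mul 0 0 0 0
      simp only [add_zero, P0, mul_zero] at this
      exact mul_left_cancel (a := M.u 0 0) (by rw [this, mul_one])
    rw [cM, h1, map_one, ← h1, M.coord_u]
  have h := (M.rel hs φ a a).2
  rw [CharTwo.add_self_eq_zero, h0, CharTwo.add_self_eq_zero] at h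
  simpa using h

theorem cA_mul (φ ψ : MulAut S) (a : F) : M.cA (φ * ψ) a = M.cA φ (M.cA ψ a) := by
  show (M.coord (φ (ψ (M.u a 0)))).1 = _
  rw [M.app hs ψ, M.app hs φ, M.coord_u]

theorem cA_one (a : F) : M.cA 1 a = a := by simp [cA, M.coord_u]

/-- The action on `S / Φ(S)`. -/
noncomputable def rho : MulAut S →* Equiv.Perm F where
  toFun φ :=
    { toFun := M.cA φ
      invFun := M.cA φ⁻¹
      left_inv := fun a => by rw [← M.cA_mul hs, inv_mul_cancel, M.cA_one hs]
      right_inv := fun a => by rw [← M.cA_mul hs, mul_inv_cancel, M.cA_one hs] }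
  map_one' := Equiv.ext fun a => M.cA_one hs a
  map_mul' φ ψ := Equiv.ext fun a => M.cA_mul hs φ ψ a

theorem rho_apply (φ : MulAut S) (a : F) : M.rho hs φ a = M.cA φ a := rfl

theorem ker_iff (φ : MulAut S) :
    φ ∈ (M.rho hs).ker ↔ ∃ L : F →+ F, ∀ a b, φ (M.u a b) = M.u a (b + L a) := by
  constructor
  · intro hφ
    have hA : ∀ a, M.cA φ a = a := fun a => by
      have := Equiv.ext_iff.1 (MonoidHom.mem_ker.1 hφ) a
      simpa [rho_apply] using this
    have hB : ∀ b, M.cB φ b = b := fun b => by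
      obtain ⟨a, ha⟩ := hs b
      rw [← ha, M.quad hs, hA]
    refine ⟨AddMonoidHom.mk' (M.cM φ) fun a c => ?_, fun a b => ?_⟩
    · have h := (M.rel hs φ a c).2
      rw [hA, hA, hB] at h
      exact add_right_cancel h
    · rw [M.app hs, hA, hB, add_comm]; rfl
  · rintro ⟨L, hL⟩
    refine MonoidHom.mem_ker.2 (Equiv.ext fun a => ?_)
    show M.cA φ a = a
    simp [cA, hL, M.coord_u]

omit hs in
/-- A bijection compatible with the product gives an automorphism. -/
noncomputable def mkAut (f : F → F → F × F) (hf : Function.Injective fun p : F × F => f p.1 p.2)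
    (hm : ∀ a b c d, M.u (f a b).1 (f a b).2 * M.u (f c d).1 (f c d).2 =
      M.u (f (a + c) (b + d + P e a * c)).1 (f (a + c) (b + d + P e a * c)).2) : MulAut S :=
  MulEquiv.ofBijective
    (MonoidHom.mk' (fun x => M.u (f (M.coord x).1 (M.coord x).2).1 (f (M.coord x).1 (M.coord x).2).2)
      (fun x y => by
        conv_rhs => rw [hm]
        have : M.coord (x * y) = ((M.coord x).1 + (M.coord y).1,
            (M.coord x).2 + (M.coord y).2 + P e (M.coord x).1 * (M.coord y).1) := by
          conv_lhs => rw [← M.u_coord x, ← M.u_coord y, M.mul, M.coord_u]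
        rw [this]))
    (Finite.injective_iff_bijective.1 (M.bij.1.comp (hf.comp M.coord.injective)))

omit hs in
theorem mkAut_u (f : F → F → F × F) (hf hm) (a b : F) :
    M.mkAut f hf hm (M.u a b) = M.u (f a b).1 (f a b).2 := by
  simp [mkAut, M.coord_u]

/-- The automorphism attached to an additive map. -/
noncomputable def shear (L : F →+ F) : MulAut S :=
  M.mkAut (fun a b => (a, b + L a))
    (fun p q h => by
      obtain ⟨h1, h2⟩ := Prod.ext_iff.1 h
      simp only at h1 h2
      rw [h1] at h2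
      exact Prod.ext h1 (add_right_cancel h2))
    (fun a b c d => by rw [M.mul, map_add]; congr 1; ring)

theorem card_ker : Nat.card (M.rho hs).ker = Nat.card (F →+ F) := by
  refine (Nat.card_eq_of_bijective (fun L => (⟨M.shear L, (M.ker_iff hs _).2
    ⟨L, fun a b => M.mkAut_u _ _ _ a b⟩⟩ : (M.rho hs).ker)) ⟨fun L L' h => ?_, ?_⟩).symm
  · ext a
    have h1 : M.shear L (M.u a 0) = M.shear L' (M.u a 0) :=
      congrArg (fun x : (M.rho hs).ker => (x : MulAut S) (M.u a 0)) h
    simp [shear, mkAut, M.coord_u] at h1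
    exact (M.inj h1).2
  · rintro ⟨φ, hφ⟩
    obtain ⟨L, hL⟩ := (M.ker_iff hs φ).1 hφ
    refine ⟨L, Subtype.ext (MulEquiv.ext fun x => ?_)⟩
    rw [← M.u_coord x, hL]
    exact M.mkAut_u _ _ _ _ _

theorem ker_elem : Cfsg.IsElementaryAbelian 2 (M.rho hs).ker := by
  refine ⟨⟨⟨?_⟩⟩, ?_⟩
  · rintro ⟨φ, hφ⟩ ⟨ψ, hψ⟩
    obtain ⟨L, hL⟩ := (M.ker_iff hs φ).1 hφ
    obtain ⟨L', hL'⟩ := (M.ker_iff hs ψ).1 hψ
    refine Subtype.ext (MulEquiv.ext fun x => ?_)
    show φ (ψ x) = ψ (φ x)
    rw [← M.u_coord x, hL, hL', hL, hL', add_right_comm]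
  · intro φ hφ
    obtain ⟨L, hL⟩ := (M.ker_iff hs φ).1 hφ
    refine MulEquiv.ext fun x => ?_
    rw [pow_two]
    show φ (φ x) = x
    rw [← M.u_coord x, hL, hL, add_assoc, CharTwo.add_self_eq_zero, add_zero]

end Props

section Range

variable (hF : Fintype.card F = 2 ^ n) (hn : 3 ≤ n) (he : e + e = 1)
  (hs : ∀ c : F, ∃ a, P e a * a = c)
include hF hn he hs

theorem range_eq : ((M.rho hs).range : Set (Equiv.Perm F)) =
    {π | ∃ (l : Fˣ) (i : ZMod n), ∀ a : F, π a = (l : F) * P i a} := by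
  ext π
  constructor
  · rintro ⟨φ, rfl⟩
    obtain ⟨l, i, hl, h⟩ := monomial hF hn e he (M.cA φ) (M.cB φ) (fun x y => (M.rel hs φ x y).1)
      (M.rho hs φ).injective (M.cB_add hs φ) (M.quad hs φ)
    exact ⟨Units.mk0 l hl, i, h⟩
  · rintro ⟨l, i, h⟩
    have hPinj : ∀ (l : F), l ≠ 0 → Function.Injective fun a : F => l * P i a := by
      intro l hl a a' hh
      exact P_injective hF i (mul_left_cancel₀ hl hh)
    refine ⟨M.mkAut (fun a b => ((l : F) * P i a, P e (l : F) * l * P i b)) ?_ ?_, ?_⟩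
    · intro p q hh
      obtain ⟨h1, h2⟩ := Prod.ext_iff.1 hh
      exact Prod.ext (hPinj _ l.ne_zero h1)
        (hPinj _ (mul_ne_zero (fun h0 => l.ne_zero (P_eq_zero.1 h0)) l.ne_zero) h2)
    · intro a b c d
      simp only [M.mul, P_add', P_mul, P_comp hF, add_comm i e]
      congr 1 <;> ring
    · refine Equiv.ext fun a => ?_
      rw [h a]
      show M.cA _ a = _
      simp [cA, mkAut, M.coord_u]

theorem card_range : Nat.card (M.rho hs).range = n * (2 ^ n - 1) := by
  have hbij : ∀ (p : Fˣ × ZMod n), Function.Bijective (fun a : F => (p.1 : F) * P p.2 a) := fun p => by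
    refine Finite.injective_iff_bijective.1 fun a a' hh => ?_
    exact P_injective hF p.2 (mul_left_cancel₀ p.1.ne_zero hh)
  let ψ : Fˣ × ZMod n → (M.rho hs).range := fun p =>
    ⟨Equiv.ofBijective _ (hbij p), (Set.ext_iff.1 (M.range_eq hF hn he hs) _).2 ⟨p.1, p.2, fun a => rfl⟩⟩
  have hψ : Function.Bijective ψ := by
    constructor
    · rintro ⟨l, i⟩ ⟨l', i'⟩ hh
      have h1 : ∀ a, (l : F) * P i a = (l' : F) * P i' a := fun a =>
        Equiv.ext_iff.1 (congrArg Subtype.val hh) a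
      have hl : l = l' := Units.ext (by simpa [P_one] using h1 1)
      subst hl
      refine Prod.ext rfl ?_
      have h2 := coeff_zero hF (c := Pi.single i (1 : F) + Pi.single i' 1) fun x => by
        simp only [Pi.add_apply, add_mul, Finset.sum_add_distrib, Pi.single_apply, ite_mul, one_mul,
          zero_mul, Finset.sum_ite_eq', Finset.mem_univ, if_true]
        rw [mul_left_cancel₀ l.ne_zero (h1 x), CharTwo.add_self_eq_zero]
      by_contra hne
      have := congrFun h2 i
      simp only [Pi.add_apply, Pi.single_eq_same, Pi.single_eq_of_ne hne, add_zero, Pi.zero_apply] at this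
      exact one_ne_zero this
    · rintro ⟨π, hπ⟩
      obtain ⟨l, i, h⟩ := (Set.ext_iff.1 (M.range_eq hF hn he hs) π).1 hπ
      exact ⟨(l, i), Subtype.ext (Equiv.ext fun a => (h a).symm)⟩
  rw [← Nat.card_eq_of_bijective ψ hψ, Nat.card_prod, Nat.card_units, Nat.card_eq_fintype_card, hF,
    Nat.card_zmod, Nat.mul_comm]

theorem card_addHom : Nat.card (F →+ F) = 2 ^ (n ^ 2) := by
  let ψ : (ZMod n → F) → (F →+ F) := fun c =>
    AddMonoidHom.mk' (fun x => ∑ j, c j * P j x)
      (fun x y => by simp only [P_add', mul_add, Finset.sum_add_distrib])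
  have hψ : Function.Bijective ψ := by
    constructor
    · intro c d hcd
      refine funext fun j => CharTwo.add_eq_zero.1 (congrFun (coeff_zero hF (c := c + d) fun x => ?_) j)
      have h1 : ∑ j, c j * P j x = ∑ j, d j * P j x := DFunLike.congr_fun hcd x
      simp only [Pi.add_apply, add_mul, Finset.sum_add_distrib, h1, CharTwo.add_self_eq_zero]
    · intro L
      obtain ⟨c, hc⟩ := exists_coeff hF L (map_add L)
      exact ⟨c, AddMonoidHom.ext hc⟩
  rw [← Nat.card_eq_of_bijective ψ hψ, Nat.card_fun, Nat.card_zmod, Nat.card_eq_fintype_card, hF,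
    ← pow_mul, sq]

include M in
theorem structure_aut (hodd : Odd n) :
    Cfsg.IsElementaryAbelian 2 (Cfsg.pCore 2 (MulAut S)) ∧
      Nat.card (Cfsg.pCore 2 (MulAut S)) = 2 ^ (n ^ 2) ∧
      Nat.card (MulAut S) = 2 ^ (n ^ 2) * (n * (2 ^ n - 1)) := by
  haveI : Fact (Nat.Prime 2) := ⟨Nat.prime_two⟩
  have hk : Nat.card (M.rho hs).ker = 2 ^ (n ^ 2) := by
    rw [M.card_ker hs, card_addHom hF hn he hs]
  have hr := M.card_range hF hn he hs
  have hcard : Nat.card (MulAut S) = 2 ^ (n ^ 2) * (n * (2 ^ n - 1)) := by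
    rw [← Subgroup.card_mul_index (M.rho hs).ker, Subgroup.index_ker, hk, hr]
  have hoddr : ¬ 2 ∣ n * (2 ^ n - 1) := by
    intro hd
    rcases Nat.prime_two.dvd_mul.1 hd with h | h
    · exact (Nat.not_even_iff_odd.2 hodd) (even_iff_two_dvd.2 h)
    · have h2 : 2 ∣ 2 ^ n := dvd_pow_self 2 (by omega)
      have := Nat.one_le_two_pow (n := n)
      omega
  have hle : ∀ N : Subgroup (MulAut S), IsPGroup 2 N → N ≤ (M.rho hs).ker := by
    intro N hp φ hφ
    rw [MonoidHom.mem_ker, ← orderOf_eq_one_iff]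
    obtain ⟨k, hk2⟩ := hp ⟨φ, hφ⟩
    have h1 : (M.rho hs φ) ^ 2 ^ k = 1 := by
      rw [← map_pow, show φ ^ 2 ^ k = 1 from by simpa [Subtype.ext_iff] using hk2, map_one]
    obtain ⟨j, -, hj⟩ := (Nat.dvd_prime_pow Nat.prime_two).1 (orderOf_dvd_of_pow_eq_one h1)
    have h3 : orderOf (M.rho hs φ) ∣ n * (2 ^ n - 1) := by
      rw [← hr]
      have := orderOf_dvd_natCard (⟨M.rho hs φ, φ, rfl⟩ : (M.rho hs).range)
      rwa [← Subgroup.orderOf_coe] at this
    rcases Nat.eq_zero_or_pos j with rfl | hj0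
    · simpa using hj
    · exact absurd ((hj ▸ dvd_pow_self 2 hj0.ne').trans h3) hoddr
  have hcore : Cfsg.pCore 2 (MulAut S) = (M.rho hs).ker := by
    refine le_antisymm (sSup_le fun N hN => hle N hN.2) (le_sSup ⟨inferInstance, ?_⟩)
    exact IsPGroup.of_card hk
  rw [hcore]
  exact ⟨M.ker_elem hs, hk, hcard⟩

end Range

end Model

end Cfsg.Agent.Lib.SuzukiAutSylow
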